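import Cfsg.Prelude.Def_LieExceptional
import Cfsg.Agent.Zass.KernelPrimePow
import Cfsg.Agent.Zass.Sharp
import Cfsg.Agent.Zass.LargeFpf
import Cfsg.Agent.Char.ZassenhausCount
import Cfsg.Agent.Char.ZassenhausFeit
import Cfsg.Agent.Perm.SharplyThreePGL
import Cfsg.Agent.Dickson.MaxPSLOdd
import Cfsg.Agent.PrimeGraph.SL2Char2

/-!
# Simple Zassenhaus groups of odd degree

Such a group is `SL₂` over a field of even order, or its point stabilisers have a non-abelian
2-group as regular normal subgroup.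
-/

set_option autoImplicit false
set_option linter.unusedSectionVars false
set_option linter.style.haveILetI false

namespace CfsgLib.FrobSystem

open MulAction

theorem sl2_or_two_kernel {G Ω : Type*} [Group G] [Finite G] [MulAction G Ω] [Finite Ω]
    [IsSimpleGroup G] (hZ : Cfsg.IsZassenhausGroup G Ω) (hn : Odd (Nat.card Ω)) {a b : Ω} (hab : a ≠ b)
    (ho : Odd (Nat.card ↥(stabilizer G a ⊓ stabilizer G b))) :
    (∃ (K : Type) (_ : Field K) (_ : Fintype K), (∃ n : ℕ, 2 ≤ n ∧ Fintype.card K = 2 ^ n) ∧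
        Nonempty (G ≃* Matrix.SpecialLinearGroup (Fin 2) K)) ∨
      ∃ U : Subgroup G, U ≤ stabilizer G a ∧ (U.subgroupOf (stabilizer G a)).Normal ∧
        IsPGroup 2 U ∧ (∃ u v : U, u * v ≠ v * u) ∧
        ∀ y z : Ω, y ≠ a → z ≠ a → ∃! u : U, (u : G) • y = z := by
  classical
  haveI := Fintype.ofFinite Ω
  haveI := Fintype.ofFinite G
  haveI := hZ.1
  rw [Nat.card_eq_fintype_card] at hn
  have h3 := CfsgLib.Char.zassenhaus_three_le hZ
  obtain ⟨k, hk⟩ := CfsgLib.Zass.card_pair_dvd_sub_two hZ hab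
  obtain ⟨U, hUa, hUcard, hUfix, hUn, hUreg⟩ := CfsgLib.Zass.exists_kernel_data hZ hab
  have he3 := CfsgLib.Char.zass_three_le_pair hZ hab ho
  set e := Nat.card ↥(stabilizer G a ⊓ stabilizer G b) with hedef
  rcases (show k = 0 ∨ k = 1 ∨ k = 2 ∨ 3 ≤ k by omega) with rfl | rfl | rfl | hk3
  · exfalso
    omega
  · -- sharply three-transitive
    left
    have hfull : Fintype.card Ω - 2 = e := by omega
    obtain ⟨h3t, hsharp⟩ := CfsgLib.Zass.sharply_of_full hZ hab hfull
    obtain ⟨p, f, hp, hf, hpf⟩ := CfsgLib.Zass.isPrimePow_degree hZ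
    have hq : p ^ f = e + 1 := by omega
    have hev : Even (p ^ f) := by rw [hq]; exact ho.add_one
    have hp2 : p = 2 := hp.nat_prime.even_iff.1 ((Nat.even_pow.1 hev).1)
    subst hp2
    obtain ⟨c, hc⟩ : ∃ c, c ∉ ({a, b} : Finset Ω) := by
      by_contra h
      push Not at h
      have := (Finset.card_le_card (fun x _ => h x : (Finset.univ : Finset Ω) ⊆ _)).trans
        (Finset.card_le_two (a := a) (b := b))
      rw [Finset.card_univ] at this
      omega
    simp only [Finset.mem_insert, Finset.mem_singleton, not_or] at hc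
    obtain ⟨s, hsa, hsb, hsc⟩ :=
      CfsgLib.SharplyThree.exists_swap h3t hab (Ne.symm hc.1) (Ne.symm hc.2)
    obtain ⟨-, -, hinv⟩ := CfsgLib.Char.zass_simple_pair hZ hab ho
    have hFc : Nat.card (GaloisField 2 f) = 2 ^ f := GaloisField.card 2 f (by omega)
    haveI : Fintype (GaloisField 2 f) := Fintype.ofFinite _
    obtain ⟨φ⟩ := CfsgLib.SharplyThree.nonempty_mulEquiv_pgl h3t hsharp hab (Ne.symm hc.1)
      (Ne.symm hc.2) hsa hsb hsc (hinv s hsa hsb) (GaloisField 2 f) (by rw [hFc]; omega)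
    obtain ⟨ψ⟩ := CfsgLib.Dickson.MaxSub.pgl_equiv_psl (GaloisField 2 f) (by rw [hFc]; exact hev)
    have hf2 : 2 ≤ f := by
      by_contra hlt
      have : f = 1 := by omega
      rw [this] at hq
      omega
    exact ⟨GaloisField 2 f, inferInstance, inferInstance,
      ⟨f, hf2, by rw [← Nat.card_eq_fintype_card, hFc]⟩,
      ⟨(φ.trans ψ).trans CfsgLib.SL2Char2.slEquivPSL.symm⟩⟩
  · exfalso
    obtain ⟨j, hj⟩ := hn
    omega
  · right
    have h3' : e * 3 ≤ e * k := Nat.mul_le_mul_left _ hk3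
    obtain ⟨h2, hna, -⟩ := CfsgLib.Char.zass_feit_simple hZ hab ho U hUa hUcard hUfix (by omega)
    exact ⟨U, hUa, hUn, h2, hna, hUreg⟩

end CfsgLib.FrobSystem
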