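import Cfsg.Agent.FrobSystem.Strong
import Cfsg.Agent.S0338
import Cfsg.Prelude.Def_LieExceptional

/-!
# Frobenius systems: the Zassenhaus group

The action on the cosets of the strongly embedded maximal solvable subgroup is that of a simple
Zassenhaus group of odd degree.
-/

set_option autoImplicit false
set_option linter.unusedSectionVars false
set_option linter.style.haveILetI false

namespace CfsgLib.FrobSystem

open Subgroup MulAction CfsgLib.StrongEmbed

variable {G : Type*} [Group G]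

namespace EvenKernel

variable {F : Subgroup G → Subgroup G} {M : Subgroup G} {S : Sylow 2 G} (h : EvenKernel F M S)
variable [Finite G]
include h

theorem exists_ne : ∃ y : G ⧸ M, y ≠ QuotientGroup.mk 1 := by
  obtain ⟨g, hg⟩ : ∃ g, g ∉ M := by
    by_contra hc
    push Not at hc
    exact h.ne_top (eq_top_iff.2 fun x _ => hc x)
  exact ⟨QuotientGroup.mk g, fun e => hg (by simpa using QuotientGroup.eq.1 e.symm)⟩

/-- The kernel is transitive on the other points, and the degree is one more than its order. -/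
theorem transitive :
    Nat.card (G ⧸ M) = Nat.card (F M) + 1 ∧
      ∀ y z : G ⧸ M, y ≠ QuotientGroup.mk 1 → z ≠ QuotientGroup.mk 1 →
        ∃ f ∈ F M, f • y = z := by
  classical
  set o : G ⧸ M := QuotientGroup.mk 1 with ho
  set e := (F M).relIndex M with he
  let Y := {y : G ⧸ M // y ≠ o}
  let T := {m : G // m ∈ M ∧ m ∉ F M}
  haveI : Fintype Y := Fintype.ofFinite _
  -- the two-point stabilisers lie disjointly outside the kernel
  let ψ : (Σ y : Y, {d : pair M y.1 // d ≠ 1}) → T := fun p =>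
    ⟨(p.2.1 : G), (mem_pair.1 p.2.1.2).1,
      fun hF => p.2.2 (Subtype.ext (h.pair_inf p.1.2 p.2.1.2 hF))⟩
  have hψ : Function.Injective ψ := by
    rintro ⟨⟨y, hy⟩, ⟨⟨d, hd⟩, hd1⟩⟩ ⟨⟨z, hz⟩, ⟨⟨d', hd'⟩, hd1'⟩⟩ e'
    obtain rfl : d = d' := congrArg Subtype.val e'
    obtain rfl : y = z := by_contra fun hne =>
      hd1 (Subtype.ext (h.pair_disjoint hy hz (Ne.symm hne) hd hd'))
    rfl
  have hT : Nat.card T = Nat.card (F M) * (e - 1) := by
    have hsub : ((F M : Subgroup G) : Set G) ⊆ M := h.le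
    have h1 : Nat.card T = ((M : Set G) \ (F M : Set G)).ncard :=
      (Nat.card_coe_set_eq ((M : Set G) \ (F M : Set G)))
    have hM : (M : Set G).ncard = Nat.card (F M) * e := (Nat.card_coe_set_eq (M : Set G)).symm.trans h.card_eq
    have hK : (F M : Set G).ncard = Nat.card (F M) := (Nat.card_coe_set_eq (F M : Set G)).symm
    rw [h1, Set.ncard_sdiff hsub, hM, hK, Nat.mul_sub, mul_one]
  have hfib : ∀ y : Y, Nat.card {d : pair M y.1 // d ≠ 1} = e - 1 := by
    intro y
    rw [he, ← h.card_pair y.2]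
    haveI := Fintype.ofFinite (pair M y.1)
    rw [Nat.card_eq_fintype_card, Nat.card_eq_fintype_card, Fintype.card_subtype_compl,
      Fintype.card_subtype_eq]
  have hle : Nat.card Y ≤ Nat.card (F M) := by
    have h1 := Nat.card_le_card_of_injective ψ hψ
    rw [Nat.card_sigma, Finset.sum_congr rfl (fun y _ => hfib y), Finset.sum_const, Finset.card_univ,
      smul_eq_mul, ← Nat.card_eq_fintype_card, hT] at h1
    exact Nat.le_of_mul_le_mul_right h1 (by have := h.one_lt_index; omega)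
  have horb : ∀ y : Y, Function.Bijective (fun f : F M =>
      (⟨(f : G) • y.1, fun e' => y.2 (smul_left_cancel (f : G) (e'.trans
        (smul_mk_one_iff.2 (h.le f.2)).symm))⟩ : Y)) := by
    intro y
    have hinj : Function.Injective (fun f : F M =>
      (⟨(f : G) • y.1, fun e' => y.2 (smul_left_cancel (f : G) (e'.trans
        (smul_mk_one_iff.2 (h.le f.2)).symm))⟩ : Y)) := by
      intro f f' e'
      have e'' : (f : G) • y.1 = (f' : G) • y.1 := congrArg Subtype.val e'
      refine Subtype.ext (inv_mul_eq_one.1 (h.semiregular (mul_mem (inv_mem f.2) f'.2) y.2 ?_))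
      rw [mul_smul, ← e'', inv_smul_smul]
    exact hinj.bijective_of_nat_card_le hle
  refine ⟨?_, fun y z hy hz => ?_⟩
  · obtain ⟨y, hy⟩ := h.exists_ne
    have h1 : Nat.card Y = Nat.card (F M) :=
      (Nat.card_congr (Equiv.ofBijective _ (horb ⟨y, hy⟩))).symm
    haveI := Fintype.ofFinite (G ⧸ M)
    rw [← h1, Nat.card_eq_fintype_card, Nat.card_eq_fintype_card]
    have h2 := Fintype.card_subtype_compl (fun y : G ⧸ M => y = o)
    rw [Fintype.card_subtype_eq] at h2
    have h3 : 0 < Fintype.card (G ⧸ M) := Fintype.card_pos_iff.2 ⟨o⟩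
    have h4 : Fintype.card Y = Fintype.card {y : G ⧸ M // ¬ y = o} := Fintype.card_congr (Equiv.refl _)
    omega
  · obtain ⟨f, hf⟩ := (horb ⟨y, hy⟩).2 ⟨z, hz⟩
    exact ⟨f, f.2, congrArg Subtype.val hf⟩

theorem odd_degree : Odd (Nat.card (G ⧸ M)) := by
  rw [h.transitive.1]
  exact (even_iff_two_dvd.2 h.two_dvd).add_one

theorem zassenhaus : Cfsg.IsZassenhausGroup G (G ⧸ M) := by
  classical
  set o : G ⧸ M := QuotientGroup.mk 1 with ho
  obtain ⟨y₀, hy₀⟩ := h.exists_ne
  have htwo : ∀ a b : G ⧸ M, a ≠ b → ∃ g : G, g • a = o ∧ g • b = y₀ := by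
    intro a b hab
    obtain ⟨g, hg⟩ := MulAction.exists_smul_eq G a o
    have hgb : g • b ≠ o := fun e => hab (smul_left_cancel g (hg.trans e.symm))
    obtain ⟨f, hf, hfy⟩ := h.transitive.2 _ _ hgb hy₀
    exact ⟨f * g, by rw [mul_smul, hg]; exact smul_mk_one_iff.2 (h.le hf), by rw [mul_smul, hfy]⟩
  have hker : ∀ g : G, (∀ x : G ⧸ M, g • x = x) → g = 1 := by
    intro g hg
    have hk : (MulAction.toPermHom G (G ⧸ M)).ker = ⊥ := by
      refine h.radical _ inferInstance ?_
      have hle : (MulAction.toPermHom G (G ⧸ M)).ker ≤ M := fun x hx =>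
        smul_mk_one_iff.1 (Equiv.congr_fun hx o)
      haveI := h.solv
      exact Group.isSolvable_of_isSolvable_injective (f := inclusion hle) (inclusion_injective hle)
    have hm : g ∈ (MulAction.toPermHom G (G ⧸ M)).ker := Equiv.ext hg
    rwa [hk, mem_bot] at hm
  refine ⟨⟨fun {g g'} hgg => inv_mul_eq_one.1 (hker _ fun x => by rw [mul_smul, ← hgg x, inv_smul_smul])⟩,
    MulAction.is_two_pretransitive_iff.2 ?_, ?_, ?_, ?_⟩
  · intro a b c d hab hcd
    obtain ⟨g, hg1, hg2⟩ := htwo a b hab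
    obtain ⟨k, hk1, hk2⟩ := htwo c d hcd
    exact ⟨k⁻¹ * g, by rw [mul_smul, hg1, ← hk1, inv_smul_smul],
      by rw [mul_smul, hg2, ← hk2, inv_smul_smul]⟩
  · intro g a b c hab hbc hac hga hgb hgc
    obtain ⟨k, hk⟩ := MulAction.exists_smul_eq G a o
    have hconj : ∀ z : G ⧸ M, g • z = z → (k * g * k⁻¹) • (k • z) = k • z := fun z hz => by
      rw [mul_smul, mul_smul, inv_smul_smul, hz]
    have hM : k * g * k⁻¹ ∈ M := smul_mk_one_iff.1 (by have := hconj a hga; rwa [hk] at this)
    have hne : ∀ z, z ≠ a → k • z ≠ o := fun z hz e => hz (smul_left_cancel k (e.trans hk.symm))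
    have h1 : k * g * k⁻¹ = 1 :=
      h.pair_disjoint (hne b hab.symm) (hne c hac.symm) (fun e => hbc (smul_left_cancel k e).symm)
        (mem_pair.2 ⟨hM, hconj b hgb⟩) (mem_pair.2 ⟨hM, hconj c hgc⟩)
    exact conj_eq_one_iff.1 h1
  · obtain ⟨d, hd, hd1⟩ := h.exists_ne_one_pair hy₀
    exact ⟨d, hd1, o, y₀, hy₀.symm, (mem_pair'.1 hd).1, (mem_pair'.1 hd).2⟩
  · intro N hN hNt
    by_contra hc
    push Not at hc
    have h2 : Nat.card N = Nat.card (G ⧸ M) := by
      refine Nat.card_congr (Equiv.ofBijective (fun n : N => (n : G) • o) ⟨fun n n' e => ?_, fun x => ?_⟩)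
      · have e' : ((n'⁻¹ * n : N) : G) • o = o := by
          simp only [Subgroup.coe_mul, Subgroup.coe_inv, mul_smul, inv_smul_eq_iff]
          exact e
        exact (inv_mul_eq_one.1 (mem_bot.1 ((hc o).le (show n'⁻¹ * n ∈ _ from e')))).symm
      · exact hNt.exists_smul_eq o x
    have hb := h.radical N hN (solvable_of_odd (h2.symm ▸ h.odd_degree))
    obtain ⟨n, hn⟩ := hNt.exists_smul_eq o y₀
    rw [Subgroup.smul_def, mem_bot.1 (hb ▸ n.2 : (n : G) ∈ (⊥ : Subgroup G)), one_smul] at hn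
    exact hy₀ hn.symm

theorem isSimpleGroup : IsSimpleGroup G := by
  haveI := Fintype.ofFinite (G ⧸ M)
  exact Cfsg.Agent.S0338.result h.zassenhaus (Nat.card_eq_fintype_card (α := G ⧸ M) ▸ h.odd_degree)

end EvenKernel

/-- A non-solvable group with a Frobenius system is a simple Zassenhaus group of odd degree with
two-point stabilisers of odd order. -/
theorem exists_zassenhaus [Finite G] {F : Subgroup G → Subgroup G} (hF : Sys F)
    (hns : ¬ Group.IsSolvable G) :
    ∃ (M : Subgroup G) (a b : G ⧸ M), a ≠ b ∧ IsSimpleGroup G ∧ Cfsg.IsZassenhausGroup G (G ⧸ M) ∧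
      Odd (Nat.card (G ⧸ M)) ∧ Odd (Nat.card ↥(stabilizer G a ⊓ stabilizer G b)) := by
  obtain ⟨M, S, hM, hS, hS1, hP, hR⟩ := exists_even_kernel hF hns
  have h : EvenKernel F M S :=
    ⟨(hF M hM).1, fun a ha x hx => conj_mem hF hM ha hx, fun x hx hx1 => centralizer_le hF hM hx hx1,
      fun x g hx hx1 hg => mem_M hF hM hx hx1 hg, hM.ne_top hns, hM.1, hS, hS1, hP, hR⟩
  obtain ⟨y, hy⟩ := h.exists_ne
  refine ⟨M, QuotientGroup.mk 1, y, hy.symm, h.isSimpleGroup, h.zassenhaus, h.odd_degree, ?_⟩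
  have hp : stabilizer G (QuotientGroup.mk 1 : G ⧸ M) ⊓ stabilizer G y = pair M y := by
    ext g
    rw [mem_pair', Subgroup.mem_inf, mem_stabilizer_iff, mem_stabilizer_iff]
  rw [hp, h.card_pair hy]
  exact h.odd_index

end CfsgLib.FrobSystem
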