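import Cfsg.Agent.CITGroups.Basic
import Cfsg.Agent.Char.FrobeniusKernel
import Cfsg.Agent.Comp.Basic
import Cfsg.Agent.Solvable.FpfComplement
import Cfsg.Agent.Solvable.PGroupBasic
import Mathlib.GroupTheory.Transfer

/-!
# Frobenius systems: first properties

`F` assigns to each maximal solvable subgroup `M` a normal subgroup `F M` which is a trivial
intersection set, is centralised by no element of `M` outside it, and is non-trivial unless `M` is
abelian.  In a non-solvable group some maximal solvable subgroup has a kernel containing a Sylow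
2-subgroup.
-/

set_option autoImplicit false
set_option linter.unusedSectionVars false
set_option linter.style.haveILetI false

namespace CfsgLib.FrobSystem

open Subgroup
open scoped Pointwise commutatorElement

variable {G : Type*} [Group G]

/-- A maximal solvable subgroup. -/
def MaxSolv (M : Subgroup G) : Prop :=
  Group.IsSolvable M ∧ ∀ M' : Subgroup G, M < M' → ¬ Group.IsSolvable M'

/-- The hypothesis on `F`. -/
def Sys (F : Subgroup G → Subgroup G) : Prop :=
  ∀ M : Subgroup G, MaxSolv M →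
    F M ≤ M ∧ M ≤ normalizer (F M : Set G) ∧
    (∀ a ∈ M, a ∉ F M → ∀ x ∈ F M, x * a = a * x → x = 1) ∧
    (∀ g : G, g ∉ M → F M ⊓ (MulAut.conj g • F M) = ⊥) ∧
    (F M ≠ ⊥ ∨ IsMulCommutative M)

theorem exists_maxSolv [Finite G] {H : Subgroup G} (hH : Group.IsSolvable H) :
    ∃ M, MaxSolv M ∧ H ≤ M := by
  classical
  haveI := Fintype.ofFinite (Subgroup G)
  obtain ⟨M, hM, hmax⟩ := (Finset.univ.filter fun M : Subgroup G => Group.IsSolvable M ∧ H ≤ M).exists_max_image
    (fun M => Nat.card M) ⟨H, by simp [hH]⟩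
  simp only [Finset.mem_filter, Finset.mem_univ, true_and] at hM hmax
  exact ⟨M, ⟨hM.1, fun M' hlt hs =>
    hlt.ne (eq_of_le_of_card_ge hlt.le (hmax M' ⟨hs, hM.2.trans hlt.le⟩))⟩, hM.2⟩

theorem solvable_of_odd [Finite G] {H : Subgroup G} (h : Odd (Nat.card H)) : Group.IsSolvable H :=
  CfsgLib.OddEnd.odd_solvable H h

theorem MaxSolv.le_of_normal {M R : Subgroup G} (hM : MaxSolv M) [R.Normal]
    (hR : Group.IsSolvable R) : R ≤ M := by
  by_contra h
  exact hM.2 (M ⊔ R) (lt_of_le_not_ge le_sup_left fun h' => h (le_sup_right.trans h'))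
    (CfsgLib.Comp.isSolvable_sup hR hM.1)

theorem MaxSolv.ne_top {M : Subgroup G} (hM : MaxSolv M) (hns : ¬ Group.IsSolvable G) : M ≠ ⊤ := by
  rintro rfl
  haveI := hM.1
  exact hns (Group.isSolvable_of_surjective (f := (topEquiv : (⊤ : Subgroup G) ≃* G).toMonoidHom)
    topEquiv.surjective)

variable {F : Subgroup G → Subgroup G} (hF : Sys F)
include hF

theorem mem_M {M : Subgroup G} (hM : MaxSolv M) {x g : G} (hx : x ∈ F M) (hx1 : x ≠ 1)
    (hg : g⁻¹ * x * g ∈ F M) : g ∈ M := by
  by_contra h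
  have h1 : x ∈ F M ⊓ MulAut.conj g • F M := by
    refine mem_inf.2 ⟨hx, ?_⟩
    rw [mem_pointwise_smul_iff_inv_smul_mem, MulAut.smul_def, MulAut.conj_inv_apply]
    exact hg
  rw [(hF M hM).2.2.2.1 g h, mem_bot] at h1
  exact hx1 h1

theorem centralizer_le {M : Subgroup G} (hM : MaxSolv M) {x : G} (hx : x ∈ F M) (hx1 : x ≠ 1) :
    centralizer ({x} : Set G) ≤ F M := by
  intro g hg
  have hc := mem_centralizer_singleton_iff.1 hg
  have hgM : g ∈ M := mem_M hF hM hx hx1 (by rw [mul_assoc, ← hc, inv_mul_cancel_left]; exact hx)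
  by_contra h
  exact hx1 ((hF M hM).2.2.1 g hgM h x hx hc.symm)

theorem conj_mem {M : Subgroup G} (hM : MaxSolv M) {a x : G} (ha : a ∈ M) (hx : x ∈ F M) :
    a * x * a⁻¹ ∈ F M :=
  (mem_normalizer_iff.1 ((hF M hM).2.1 ha) x).1 hx

theorem eq_one_of_normal_le {M : Subgroup G} (hM : MaxSolv M) (hns : ¬ Group.IsSolvable G)
    {R : Subgroup G} (hn : R.Normal) (hR : R ≤ F M) : R = ⊥ := by
  obtain ⟨g, hg⟩ : ∃ g, g ∉ M := by
    by_contra h
    push Not at h
    exact hM.ne_top hns (eq_top_iff.2 fun x _ => h x)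
  refine (eq_bot_iff_forall _).2 fun x hx => by_contra fun hx1 => hg ?_
  exact mem_M hF hM (hR hx) hx1 (hR (by simpa using hn.conj_mem x hx g⁻¹))

variable [Finite G]

/-- There is no non-trivial solvable normal subgroup. -/
theorem eq_bot_of_solvable_normal (hns : ¬ Group.IsSolvable G) {R : Subgroup G} (hn : R.Normal)
    (hR : Group.IsSolvable R) {M : Subgroup G} (hM : MaxSolv M) (hFM : F M ≠ ⊥) : R = ⊥ := by
  by_contra hR1
  haveI := hn
  have hRM : R ≤ M := hM.le_of_normal hR
  -- a characteristic abelian subgroup lies in the kernel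
  haveI : Nontrivial R := (nontrivial_iff_ne_bot R).2 hR1
  obtain ⟨A, hAn, hA1, hAc, hAR⟩ : ∃ A : Subgroup G, A.Normal ∧ A ≠ ⊥ ∧
      (∀ a ∈ A, ∀ b ∈ A, a * b = b * a) ∧ A ≤ R := by
    obtain ⟨n, hn'⟩ := (Group.isSolvable_def R).1 hR
    have hex : ∃ k, derivedSeries R k = ⊥ := ⟨n, hn'⟩
    classical
    have hk0 : Nat.find hex ≠ 0 := fun h0 => by
      have h := Nat.find_spec hex
      rw [h0, derivedSeries_zero] at h
      exact top_ne_bot h
    obtain ⟨k, hk⟩ := Nat.exists_eq_succ_of_ne_zero hk0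
    refine ⟨(derivedSeries R k).map R.subtype, inferInstance, ?_, ?_, map_subtype_le _⟩
    · intro h
      rw [map_eq_bot_iff_of_injective _ R.subtype_injective] at h
      have := Nat.find_min' hex h
      omega
    · rintro _ ⟨a, ha, rfl⟩ _ ⟨b, hb, rfl⟩
      have h : ⁅a, b⁆ ∈ derivedSeries R (k + 1) := by
        rw [derivedSeries_succ]; exact commutator_mem_commutator ha hb
      rw [show k + 1 = Nat.find hex from hk.symm, Nat.find_spec hex, mem_bot,
        commutatorElement_eq_one_iff_mul_comm] at h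
      exact congrArg R.subtype h
  haveI := hAn
  by_cases hA : A ⊓ F M = ⊥
  · obtain ⟨x, hx, hx1⟩ := (bot_or_exists_ne_one (F M)).resolve_left hFM
    obtain ⟨r, hr, hr1⟩ := (bot_or_exists_ne_one A).resolve_left hA1
    have hrF : r ∉ F M := fun h => hr1 (mem_bot.1 (hA ▸ (⟨hr, h⟩ : r ∈ A ⊓ F M)))
    refine hx1 ((hF M hM).2.2.1 r (hRM (hAR hr)) hrF x hx ?_)
    have hc : x * r * x⁻¹ * r⁻¹ ∈ A ⊓ F M := by
      refine mem_inf.2 ⟨mul_mem (hAn.conj_mem r hr x) (inv_mem hr), ?_⟩
      rw [show x * r * x⁻¹ * r⁻¹ = x * (r * x⁻¹ * r⁻¹) by group]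
      exact mul_mem hx (conj_mem hF hM (hRM (hAR hr)) (inv_mem hx))
    rw [hA, mem_bot, mul_inv_eq_one, mul_inv_eq_iff_eq_mul] at hc
    exact hc
  · obtain ⟨y, hy, hy1⟩ := (bot_or_exists_ne_one _).resolve_left hA
    refine hA1 (eq_one_of_normal_le hF hM hns hAn fun a ha => ?_)
    exact centralizer_le hF hM hy.2 hy1 (mem_centralizer_singleton_iff.2 (hAc a ha y hy.1))

/-- Some maximal solvable subgroup has a kernel, proper in it, containing a Sylow 2-subgroup. -/
theorem exists_even_kernel (hns : ¬ Group.IsSolvable G) :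
    ∃ (M : Subgroup G) (S : Sylow 2 G), MaxSolv M ∧ (S : Subgroup G) ≤ F M ∧
      (S : Subgroup G) ≠ ⊥ ∧ F M ≠ M ∧
      ∀ R : Subgroup G, R.Normal → Group.IsSolvable R → R = ⊥ := by
  classical
  haveI : Fact (Nat.Prime 2) := ⟨Nat.prime_two⟩
  obtain ⟨S⟩ : Nonempty (Sylow 2 G) := inferInstance
  have hS1 : (S : Subgroup G) ≠ ⊥ := by
    intro h
    refine hns (CfsgLib.OddEnd.odd_solvable G (Nat.not_even_iff_odd.1 fun he => ?_))
    exact S.ne_bot_of_dvd_card (even_iff_two_dvd.1 he) h
  obtain ⟨M, hM, hNM⟩ : ∃ M, MaxSolv M ∧ normalizer ((S : Subgroup G) : Set G) ≤ M := by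
    refine exists_maxSolv ?_
    set N := normalizer ((S : Subgroup G) : Set G)
    haveI : Group.IsNilpotent (S : Subgroup G) := S.2.isNilpotent
    haveI : ((S : Subgroup G).subgroupOf N).Normal := normal_in_normalizer
    haveI : Group.IsSolvable ((S : Subgroup G).subgroupOf N) :=
      Group.isSolvable_of_isSolvable_injective
        (f := (subgroupOfEquivOfLe (le_normalizer : (S : Subgroup G) ≤ N)).toMonoidHom)
        (subgroupOfEquivOfLe (le_normalizer : (S : Subgroup G) ≤ N)).injective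
    haveI : Group.IsSolvable (N ⧸ (S : Subgroup G).subgroupOf N) := by
      refine CfsgLib.OddEnd.odd_solvable _ (Nat.not_even_iff_odd.1 fun he => ?_)
      exact (S.subtype (le_normalizer : (S : Subgroup G) ≤ N)).not_dvd_index (even_iff_two_dvd.1 he)
    exact (Group.isSolvable_iff_subgroup_quotient ((S : Subgroup G).subgroupOf N)).mpr ⟨‹_›, ‹_›⟩
  have hSM : (S : Subgroup G) ≤ M := le_normalizer.trans hNM
  -- the kernel is non-trivial
  have hFM : F M ≠ ⊥ := by
    intro h0
    have hc := ((hF M hM).2.2.2.2).resolve_left (not_not.2 h0)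
    have hb : normalizer ((S : Subgroup G) : Set G) ≤ centralizer ((S : Subgroup G) : Set G) :=
      fun x hx => mem_centralizer_iff.2 fun s hs =>
        congrArg Subtype.val (hc.is_comm.comm (⟨s, hSM hs⟩ : M) ⟨x, hNM hx⟩)
    have hcomp := MonoidHom.ker_transferSylow_isComplement' S hb
    set K := (MonoidHom.transferSylow S hb).ker
    haveI : Group.IsSolvable K := by
      refine solvable_of_odd (Nat.not_even_iff_odd.1 fun he => ?_)
      exact MonoidHom.not_dvd_card_ker_transferSylow S hb (even_iff_two_dvd.1 he)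
    haveI : Group.IsSolvable M := hM.1
    haveI : Group.IsNilpotent (S : Subgroup G) := S.2.isNilpotent
    exact hns (Group.isSolvable_of_ker_le_range K.subtype (MonoidHom.transferSylow S hb)
      (by rw [range_subtype]))
  have hrad : ∀ R : Subgroup G, R.Normal → Group.IsSolvable R → R = ⊥ :=
    fun R hn hR => eq_bot_of_solvable_normal hF hns hn hR hM hFM
  -- the kernel contains a central element of `S`
  have hSF : ¬ (S : Subgroup G) ⊓ F M = ⊥ := by
    intro h0
    haveI : Nontrivial (F M) := (nontrivial_iff_ne_bot _).2 hFM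
    let φ : (S : Subgroup G) →* MulAut (F M) :=
      (normalizerMonoidHom (F M)).comp (inclusion (hSM.trans (hF M hM).2.1))
    have hφ : CfsgLib.Frobenius.IsFpf φ := by
      intro s hs k hk
      have h1 : (s : G) * (k : G) * (s : G)⁻¹ = k := congrArg Subtype.val hk
      refine Subtype.ext ((hF M hM).2.2.1 s (hSM s.2) (fun h => hs ?_) k k.2
        (mul_inv_eq_iff_eq_mul.1 h1).symm)
      exact Subtype.ext (mem_bot.1 (h0 ▸ (⟨s.2, h⟩ : (s : G) ∈ (S : Subgroup G) ⊓ F M)))
    have huniq : ∀ v ∈ S, ∀ w ∈ S, orderOf v = 2 → orderOf w = 2 → v = w := by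
      intro v hv w hw hv2 hw2
      have := CfsgLib.FpfComplement.unique_prime_order hφ S.2 (⟨v, hv⟩ : (S : Subgroup G)) ⟨w, hw⟩
        (by rw [orderOf_mk]; exact hv2) (by rw [orderOf_mk]; exact hw2)
      obtain ⟨k, hk⟩ := mem_zpowers_iff.1 this
      have hk' : v ^ k = w := congrArg Subtype.val hk
      have hvv : v ^ (2 : ℕ) = 1 := hv2 ▸ pow_orderOf_eq_one v
      rcases Int.even_or_odd k with ⟨j, hj⟩ | ⟨j, hj⟩
      · exfalso
        rw [hj, ← two_mul, zpow_mul, show v ^ (2 : ℤ) = 1 from (zpow_natCast v 2).trans hvv, one_zpow] at hk'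
        rw [← hk', orderOf_one] at hw2
        omega
      · rw [hj, zpow_add_one, zpow_mul, show v ^ (2 : ℤ) = 1 from (zpow_natCast v 2).trans hvv, one_zpow,
          one_mul] at hk'
        exact hk'
    obtain ⟨z, hz⟩ := exists_prime_orderOf_dvd_card' (G := G) 2
      ((S.2.card_eq_or_dvd).resolve_left (fun e => hS1 (card_eq_one.1 e)) |>.trans (card_subgroup_dvd_card _))
    obtain ⟨N, hN, hNodd, hNz⟩ := CfsgLib.ZStar.zstar (CfsgLib.ZStar.isolated_of_commuting
      (fun v w h1 h2 h3 => CfsgLib.ZStar.commuting_eq_of_sylow S huniq h1 h2 h3) hz)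
    have hN0 : N = ⊥ := hrad N hN (solvable_of_odd hNodd)
    have hzc : z ∈ center G := mem_center_iff.2 fun g => by
      have := hNz g
      rw [hN0, mem_bot, mul_inv_eq_one, mul_inv_eq_iff_eq_mul] at this
      exact this.symm
    have hzn : (zpowers z).Normal := ⟨fun x hx g => by
      have hxc : x ∈ center G := (zpowers_le.2 hzc : zpowers z ≤ center G) hx
      rw [mem_center_iff.1 hxc g, mul_inv_cancel_right]; exact hx⟩
    have := hrad _ hzn (Group.isSolvable_of_comm fun a b => Subtype.ext (setLike_mul_comm a.2 b.2))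
    rw [zpowers_eq_bot] at this
    rw [this, orderOf_one] at hz
    omega
  have hSle : (S : Subgroup G) ≤ F M := by
    obtain ⟨x, hx, hx1⟩ := (bot_or_exists_ne_one _).resolve_left hSF
    have hxn : ((F M).subgroupOf S).Normal := ⟨fun a ha s => conj_mem hF hM (hSM s.2) ha⟩
    have hne : (F M).subgroupOf S ≠ ⊥ := fun e => by
      have : (⟨x, hx.1⟩ : (S : Subgroup G)) ∈ (F M).subgroupOf S := hx.2
      rw [e, mem_bot] at this
      exact hx1 (congrArg Subtype.val this)
    haveI := hxn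
    haveI : Group.IsNilpotent (S : Subgroup G) := S.2.isNilpotent
    haveI : Nontrivial ((F M).subgroupOf S) := (nontrivial_iff_ne_bot _).2 hne
    obtain ⟨c, hcF, hcc, hc1⟩ : ∃ c : (S : Subgroup G), c ∈ (F M).subgroupOf S ∧
        c ∈ center (S : Subgroup G) ∧ c ≠ 1 := by
      obtain ⟨c, hc, hc1⟩ := (bot_or_exists_ne_one _).resolve_left
        (CfsgLib.PGroupBasic.inf_center_ne_bot _ hne)
      exact ⟨c, hc.1, hc.2, hc1⟩
    exact fun s hs => centralizer_le hF hM (x := (c : G)) hcF (fun e => hc1 (Subtype.ext e))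
      (mem_centralizer_singleton_iff.2 (congrArg Subtype.val (mem_center_iff.1 hcc ⟨s, hs⟩)))
  refine ⟨M, S, hM, hSle, hS1, fun heq => ?_, hrad⟩
  have hTI : ∀ g : G, g ∉ M → ∀ h ∈ M, g * h * g⁻¹ ∈ M → h = 1 := by
    intro g hg h hh hgh
    by_contra h1
    refine hg ?_
    have := mem_M hF hM (g := g⁻¹) (heq.symm ▸ hh) h1 (by simpa [heq] using hgh)
    simpa using inv_mem this
  obtain ⟨K, hKn, hKM, hsup, -, -⟩ := CfsgLib.Char.exists_frobenius_kernel M hTI
  have hKodd : Odd (Nat.card K) := by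
    refine Nat.not_even_iff_odd.1 fun he => ?_
    obtain ⟨k, hk⟩ := exists_prime_orderOf_dvd_card' (G := K) 2 (even_iff_two_dvd.1 he)
    have hp : IsPGroup 2 (zpowers (k : G)) :=
      IsPGroup.of_card (n := 1) (by rw [Nat.card_zpowers, orderOf_coe, hk, pow_one])
    obtain ⟨T, hT⟩ := hp.exists_le_sylow
    obtain ⟨t, ht⟩ := MulAction.exists_smul_eq G T S
    have hmem : t * (k : G) * t⁻¹ ∈ K ⊓ M := by
      refine ⟨hKn.conj_mem _ k.2 t, hSM ?_⟩
      rw [← ht]
      exact ⟨k, hT (mem_zpowers _), rfl⟩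
    rw [hKM, mem_bot, conj_eq_one_iff] at hmem
    rw [← orderOf_coe, hmem, orderOf_one] at hk
    omega
  have hK0 := hrad K hKn (solvable_of_odd hKodd)
  rw [hK0, bot_sup_eq] at hsup
  exact hM.ne_top hns hsup

end CfsgLib.FrobSystem
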