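import Cfsg.Agent.FrobSystem.Basic
import Cfsg.Agent.Invol.StrongEmbedded

/-!
# Frobenius systems: the strongly embedded subgroup

The maximal solvable subgroup `M` whose kernel contains a Sylow 2-subgroup is strongly embedded,
and a two-point stabiliser in the action on `G ⧸ M` is an abelian complement of the kernel fixing
exactly two points.
-/

set_option autoImplicit false
set_option linter.unusedSectionVars false
set_option linter.style.haveILetI false

namespace CfsgLib.FrobSystem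

open Subgroup MulAction CfsgLib.StrongEmbed

variable {G : Type*} [Group G]

/-- A proper solvable subgroup `M` with a normal trivial intersection subgroup `F M` which contains
the centralisers of its non-trivial elements and a Sylow 2-subgroup. Only the value `F M` matters. -/
structure EvenKernel (F : Subgroup G → Subgroup G) (M : Subgroup G) (S : Sylow 2 G) : Prop where
  kle : F M ≤ M
  kconj : ∀ a ∈ M, ∀ x ∈ F M, a * x * a⁻¹ ∈ F M
  kcent : ∀ x ∈ F M, x ≠ 1 → centralizer ({x} : Set G) ≤ F M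
  kti : ∀ x g : G, x ∈ F M → x ≠ 1 → g⁻¹ * x * g ∈ F M → g ∈ M
  ne_top : M ≠ ⊤
  solv : Group.IsSolvable M
  sylow_le : (S : Subgroup G) ≤ F M
  sylow_ne : (S : Subgroup G) ≠ ⊥
  proper : F M ≠ M
  radical : ∀ R : Subgroup G, R.Normal → Group.IsSolvable R → R = ⊥

namespace EvenKernel

variable {F : Subgroup G → Subgroup G} {M : Subgroup G} {S : Sylow 2 G} (h : EvenKernel F M S)
include h

theorem le : F M ≤ M := h.kle

theorem normal : ((F M).subgroupOf M).Normal :=
  ⟨fun a ha g => h.kconj g g.2 a ha⟩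

theorem cent {x g : G} (hx : x ∈ F M) (hx1 : x ≠ 1) (hc : x * g = g * x) : g ∈ F M :=
  h.kcent x hx hx1 (mem_centralizer_singleton_iff.2 hc.symm)

theorem fpf {a x : G} (ha : a ∈ M) (haF : a ∉ F M) (hx : x ∈ F M) (hc : x * a = a * x) : x = 1 :=
  by_contra fun hx1 => haF (h.cent hx hx1 hc)

variable [Finite G]

/-- The order of the kernel is prime to its index in `M`. -/
theorem coprime : (Nat.card (F M)).Coprime ((F M).relIndex M) := by
  refine Nat.coprime_of_dvd fun p hp hp1 hp2 => ?_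
  haveI : Fact p.Prime := ⟨hp⟩
  haveI := h.normal
  obtain ⟨P⟩ : Nonempty (Sylow p M) := inferInstance
  set N := (F M).subgroupOf M with hN
  have hPN : (P : Subgroup M) ≤ N := by
    have hne : N.subgroupOf (P : Subgroup M) ≠ ⊥ := by
      intro h0
      haveI : Fact p.Prime := ⟨hp⟩
      obtain ⟨x, hx⟩ := exists_prime_orderOf_dvd_card' (G := N) p
        (by rw [Nat.card_congr (subgroupOfEquivOfLe h.le).toEquiv]; exact hp1)
      rw [← orderOf_coe] at hx
      obtain ⟨Q, hQ⟩ := (IsPGroup.of_card (n := 1) (by rw [Nat.card_zpowers, hx, pow_one]) :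
        IsPGroup p (zpowers (x : M))).exists_le_sylow
      obtain ⟨m, hm⟩ := MulAction.exists_smul_eq M Q P
      have hmem : m * (x : M) * m⁻¹ ∈ (P : Subgroup M) := by
        rw [← hm]; exact ⟨x, hQ (mem_zpowers _), rfl⟩
      have : (⟨_, hmem⟩ : (P : Subgroup M)) ∈ N.subgroupOf (P : Subgroup M) := h.normal.conj_mem _ x.2 m
      rw [h0, mem_bot] at this
      have h1 : m * (x : M) * m⁻¹ = 1 := congrArg Subtype.val this
      rw [conj_eq_one_iff] at h1
      rw [h1, orderOf_one] at hx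
      exact hp.ne_one hx.symm
    haveI : Group.IsNilpotent (P : Subgroup M) := P.2.isNilpotent
    obtain ⟨c, hc, hc1⟩ := (bot_or_exists_ne_one _).resolve_left
      (CfsgLib.PGroupBasic.inf_center_ne_bot _ hne)
    exact fun y hy => h.cent (x := ((c : M) : G)) hc.1
      (fun e => hc1 (Subtype.ext (Subtype.ext e)))
      (congrArg (fun z : (P : Subgroup M) => ((z : M) : G)) (mem_center_iff.1 hc.2 ⟨y, hy⟩)).symm
  refine P.not_dvd_index (dvd_trans hp2 ?_)
  exact index_dvd_of_le hPN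

/-- An element of `M` whose order is prime to the index lies in the kernel. -/
theorem mem_of_coprime {x : G} (hx : x ∈ M) (hco : (orderOf x).Coprime ((F M).relIndex M)) :
    x ∈ F M := by
  haveI := h.normal
  have h1 : orderOf (QuotientGroup.mk' ((F M).subgroupOf M) ⟨x, hx⟩) ∣ orderOf x :=
    (orderOf_map_dvd _ _).trans (dvd_of_eq (orderOf_mk x hx))
  have h2 : orderOf (QuotientGroup.mk' ((F M).subgroupOf M) ⟨x, hx⟩) ∣ (F M).relIndex M :=
    orderOf_dvd_natCard _
  have h3 := Nat.eq_one_of_dvd_coprimes hco h1 h2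
  rw [orderOf_eq_one_iff] at h3
  exact mem_subgroupOf.1 ((QuotientGroup.eq_one_iff (⟨x, hx⟩ : M)).1 h3)

theorem two_dvd : 2 ∣ Nat.card (F M) := by
  haveI : Fact (Nat.Prime 2) := ⟨Nat.prime_two⟩
  refine dvd_trans ?_ (card_dvd_of_le h.sylow_le)
  exact (S.2.card_eq_or_dvd).resolve_left fun e => h.sylow_ne (card_eq_one.1 e)

theorem odd_index : Odd ((F M).relIndex M) :=
  Nat.coprime_two_left.1 (h.coprime.coprime_dvd_left h.two_dvd)

theorem one_lt_index : 1 < (F M).relIndex M := by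
  have h1 : (F M).relIndex M ≠ 1 := fun e => h.proper (le_antisymm h.le (relIndex_eq_one.1 e))
  have h2 : (F M).relIndex M ≠ 0 := fun e => by have := h.odd_index; rw [e] at this; simp at this
  omega

theorem card_eq : Nat.card M = Nat.card (F M) * (F M).relIndex M := by
  rw [← Nat.card_congr (subgroupOfEquivOfLe h.le).toEquiv]
  exact (card_mul_index _).symm

theorem invol_mem {t : G} (ht : t ∈ M) (ht2 : orderOf t = 2) : t ∈ F M :=
  h.mem_of_coprime ht (by rw [ht2]; exact Nat.coprime_two_left.2 h.odd_index)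

theorem strong : Cfsg.IsStronglyEmbedded M := by
  haveI : Fact (Nat.Prime 2) := ⟨Nat.prime_two⟩
  refine ⟨h.ne_top, even_iff_two_dvd.2 (h.two_dvd.trans (card_dvd_of_le h.le)), fun g hg => ?_⟩
  refine Nat.not_even_iff_odd.1 fun he => hg ?_
  obtain ⟨t, ht⟩ := exists_prime_orderOf_dvd_card' 2 (even_iff_two_dvd.1 he)
  rw [← orderOf_coe] at ht
  obtain ⟨htM, htg⟩ := mem_inf_conj_iff.1 t.2
  refine h.kti _ _ (h.invol_mem htM ht) (fun e => by rw [e, orderOf_one] at ht; omega) ?_
  refine h.invol_mem htg ?_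
  rw [show g⁻¹ * (t : G) * g = g⁻¹ * t * g⁻¹⁻¹ by rw [inv_inv], CfsgLib.Invol.orderOf_conj_eq, ht]

theorem exists_invol_out {y : G ⧸ M} (hy : y ≠ QuotientGroup.mk 1) :
    ∃ u : G, orderOf u = 2 ∧ u ∉ M ∧ u • (QuotientGroup.mk 1 : G ⧸ M) = y := by
  obtain ⟨u, hu, huy⟩ := exists_swap h.strong (Ne.symm hy)
  exact ⟨u, hu, fun hm => hy (huy ▸ smul_mk_one_iff.2 hm), huy⟩

/-- The kernel fixes only one point. -/
theorem semiregular {f : G} (hf : f ∈ F M) {y : G ⧸ M} (hy : y ≠ QuotientGroup.mk 1)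
    (hfy : f • y = y) : f = 1 := by
  by_contra hf1
  obtain ⟨g, rfl⟩ := QuotientGroup.mk_surjective y
  rw [smul_mk_iff] at hfy
  have hgM : g ∈ M := h.kti _ _ hf hf1 (h.mem_of_coprime hfy (by
    rw [show g⁻¹ * f * g = g⁻¹ * f * g⁻¹⁻¹ by rw [inv_inv], CfsgLib.Invol.orderOf_conj_eq]
    exact h.coprime.coprime_dvd_left ((orderOf_mk f hf).symm ▸ orderOf_dvd_natCard _)))
  exact hy (QuotientGroup.eq.2 (by simpa using inv_mem hgM))

end EvenKernel

/-- The stabiliser of the base point and another point. -/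
def pair (M : Subgroup G) (y : G ⧸ M) : Subgroup G := M ⊓ stabilizer G y

theorem mem_of_quot_eq_one {N M A : Subgroup G} [(N.subgroupOf M).Normal] (hA : A ≤ M) {x : A}
    (hx : ((QuotientGroup.mk' (N.subgroupOf M)).comp (inclusion hA)) x = 1) : (x : G) ∈ N :=
  mem_subgroupOf.1 ((QuotientGroup.eq_one_iff (inclusion hA x)).1 hx)

theorem mem_pair {M : Subgroup G} {y : G ⧸ M} {g : G} : g ∈ pair M y ↔ g ∈ M ∧ g • y = y :=
  mem_inf.trans (and_congr Iff.rfl mem_stabilizer_iff)

theorem mem_pair' [Finite G] {M : Subgroup G} {y : G ⧸ M} {g : G} :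
    g ∈ pair M y ↔ g • (QuotientGroup.mk 1 : G ⧸ M) = QuotientGroup.mk 1 ∧ g • y = y :=
  mem_pair.trans (and_congr smul_mk_one_iff.symm Iff.rfl)

namespace EvenKernel

variable {F : Subgroup G → Subgroup G} {M : Subgroup G} {S : Sylow 2 G} (h : EvenKernel F M S)
variable [Finite G] {y : G ⧸ M} (hy : y ≠ QuotientGroup.mk 1)

include h hy

theorem pair_inf {x : G} (hx : x ∈ pair M y) (hxF : x ∈ F M) : x = 1 :=
  h.semiregular hxF hy (mem_pair.1 hx).2

theorem card_invol_and_pair :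
    Nat.card (pair M y) = (F M).relIndex M ∧
      Nat.card {t : G // orderOf t = 2 ∧ t ∈ M} = (F M).relIndex M := by
  classical
  haveI := h.normal
  set N := (F M).subgroupOf M with hN
  obtain ⟨u, hu, huM, huy⟩ := h.exists_invol_out hy
  obtain ⟨a, haM, ha⟩ := exists_invol h.strong
  have haF := h.invol_mem haM ha
  have ha1 : a ≠ 1 := fun e => by rw [e, orderOf_one] at ha; omega
  let f : pair M y → {t : G // orderOf t = 2 ∧ t ∈ M} := fun d =>
    ⟨d * a * (d : G)⁻¹, by rw [CfsgLib.Invol.orderOf_conj_eq, ha],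
      mul_mem (mul_mem (mem_pair.1 d.2).1 haM) (inv_mem (mem_pair.1 d.2).1)⟩
  have hcent : ∀ d d' : G, d * a * d⁻¹ = d' * a * d'⁻¹ → d⁻¹ * d' ∈ F M := fun d d' e => by
    refine h.cent haF ha1 ?_
    calc a * (d⁻¹ * d') = d⁻¹ * (d * a * d⁻¹) * d' := by group
      _ = d⁻¹ * (d' * a * d'⁻¹) * d' := by rw [e]
      _ = _ := by group
  have hf : Function.Bijective f := by
    refine ⟨fun d d' e => Subtype.ext (inv_mul_eq_one.1 (h.pair_inf hy (mul_mem (inv_mem d.2) d'.2)
      (hcent d d' (congrArg Subtype.val e)))), fun t => ?_⟩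
    obtain ⟨d, hd, hdt⟩ := exists_conj_in_stabilizer h.strong hu huM ha haM t.2.1 t.2.2
    refine ⟨⟨d, mem_pair.2 ⟨(mem_inf.1 hd).1, ?_⟩⟩, Subtype.ext hdt⟩
    rw [← huy, smul_mk_one_eq, smul_mk_iff]
    exact (mem_inf_conj_iff.1 hd).2
  have h1 : Nat.card (pair M y) = Nat.card {t : G // orderOf t = 2 ∧ t ∈ M} :=
    Nat.card_congr (Equiv.ofBijective f hf)
  have h2 : Nat.card (pair M y) ∣ (F M).relIndex M := by
    refine card_dvd_of_injective ((QuotientGroup.mk' N).comp (inclusion (inf_le_left : pair M y ≤ M)))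
      ((injective_iff_map_eq_one _).2 fun d hd => Subtype.ext (h.pair_inf hy d.2 ?_))
    exact mem_of_quot_eq_one _ hd
  have h3 : (F M).relIndex M ≤ Nat.card {t : G // orderOf t = 2 ∧ t ∈ M} := by
    refine Nat.card_le_card_of_injective (α := M ⧸ N) (fun q =>
      (⟨(q.out : G) * a * (q.out : G)⁻¹, by rw [CfsgLib.Invol.orderOf_conj_eq, ha],
        mul_mem (mul_mem q.out.2 haM) (inv_mem q.out.2)⟩ : {t : G // orderOf t = 2 ∧ t ∈ M}))
      fun q q' e => ?_
    have := hcent _ _ (congrArg Subtype.val e)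
    rw [← QuotientGroup.out_eq' q, ← QuotientGroup.out_eq' q']
    exact QuotientGroup.eq.2 (mem_subgroupOf.2 this)
  have h4 := Nat.le_of_dvd (zero_lt_one.trans h.one_lt_index) h2
  omega

theorem card_pair : Nat.card (pair M y) = (F M).relIndex M := (h.card_invol_and_pair hy).1

theorem exists_decomp {x : G} (hx : x ∈ M) : ∃ f ∈ F M, ∃ d ∈ pair M y, x = f * d := by
  haveI := h.normal
  let φ := (QuotientGroup.mk' ((F M).subgroupOf M)).comp (inclusion (inf_le_left : pair M y ≤ M))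
  have hinj : Function.Injective φ := (injective_iff_map_eq_one _).2 fun d hd => Subtype.ext
    (h.pair_inf hy d.2 (mem_of_quot_eq_one _ hd))
  obtain ⟨d, hd⟩ := (hinj.bijective_of_nat_card_le (h.card_pair hy).ge).2
    (QuotientGroup.mk' _ ⟨x, hx⟩)
  refine ⟨x * (d : G)⁻¹, ?_, d, d.2, by group⟩
  have h1 : (inclusion (inf_le_left : pair M y ≤ M) d)⁻¹ * ⟨x, hx⟩ ∈ (F M).subgroupOf M :=
    QuotientGroup.eq.1 hd
  have h2 := h.kconj _ (mem_pair.1 d.2).1 _ (mem_subgroupOf.1 h1)
  simpa [mul_assoc] using h2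

theorem exists_ne_one_pair : ∃ d ∈ pair M y, d ≠ 1 := by
  refine (bot_or_exists_ne_one _).resolve_left fun e => ?_
  have h1 := h.one_lt_index
  rw [← h.card_pair hy, e, card_bot] at h1
  omega

/-- The normaliser of a two-point stabiliser meets `M` in it. -/
theorem normalizer_inf {n : G} (hn : n ∈ normalizer (pair M y : Set G)) (hnM : n ∈ M) :
    n ∈ pair M y := by
  obtain ⟨f, hf, d, hd, rfl⟩ := h.exists_decomp hy hnM
  have hfn : f ∈ normalizer (pair M y : Set G) := by
    simpa using mul_mem hn (inv_mem (le_normalizer hd))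
  obtain ⟨e, he, he1⟩ := h.exists_ne_one_pair hy
  have hc : f * e * f⁻¹ * e⁻¹ = 1 := by
    refine h.pair_inf hy (mul_mem ((mem_normalizer_iff.1 hfn e).1 he) (inv_mem he)) ?_
    rw [show f * e * f⁻¹ * e⁻¹ = f * (e * f⁻¹ * e⁻¹) by group]
    exact mul_mem hf (h.kconj _ (mem_pair.1 he).1 _ (inv_mem hf))
  have hf1 : f = 1 := h.fpf (mem_pair.1 he).1 (fun heF => he1 (h.pair_inf hy he heF)) hf
    (mul_inv_eq_iff_eq_mul.1 (mul_inv_eq_one.1 hc))
  rw [hf1, one_mul]
  exact hd

/-- A two-point stabiliser is abelian and fixes just the two points. -/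
theorem pair_abelian_and_fix :
    (∀ c ∈ pair M y, ∀ d ∈ pair M y, c * d = d * c) ∧
      ∀ z : G ⧸ M, (∀ d ∈ pair M y, d • z = z) → z = QuotientGroup.mk 1 ∨ z = y := by
  classical
  set o : G ⧸ M := QuotientGroup.mk 1 with ho
  set D := pair M y with hD
  set e := (F M).relIndex M with he
  obtain ⟨u₀, hu₀, hu₀M, hu₀y⟩ := h.exists_invol_out hy
  set N := normalizer (D : Set G) with hNdef
  let Δ : Set (G ⧸ M) := {x | ∀ d ∈ D, d • x = x}
  have hoΔ : o ∈ Δ := fun d hd => (mem_pair'.1 hd).1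
  have hyΔ : y ∈ Δ := fun d hd => (mem_pair'.1 hd).2
  have hNΔ : ∀ n ∈ N, ∀ x ∈ Δ, n • x ∈ Δ := fun n hn x hx d hd => by
    have hd' : n⁻¹ * d * n ∈ D := by simpa using (mem_normalizer_iff.1 (inv_mem hn) d).1 hd
    have := hx _ hd'
    rwa [mul_smul, mul_smul, inv_smul_eq_iff] at this
  have hswap : ∀ z ∈ Δ, z ≠ o → ∀ i : G, orderOf i = 2 → i • o = z → i ∈ N := by
    intro z hz hzo i hi hiz
    have hii := CfsgLib.Invol.mul_self_eq_one hi
    have hzi : i • z = o := by rw [← hiz, smul_smul, hii, one_smul]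
    have heq : D = pair M z := eq_of_le_of_card_ge
      (fun d hd => mem_pair.2 ⟨(mem_pair.1 hd).1, hz d hd⟩)
      (le_of_eq (by rw [h.card_pair hzo, hD, h.card_pair hy]))
    have hic : ∀ d ∈ D, i * d * i⁻¹ ∈ D := fun d hd => by
      rw [heq, mem_pair'] at hd ⊢
      rw [CfsgLib.Invol.inv_eq_self hi]
      constructor
      · rw [mul_smul, mul_smul, hiz, hd.2, hzi]
      · rw [mul_smul, mul_smul, hzi, hd.1, hiz]
    refine mem_normalizer_iff.2 fun d => ⟨hic d, fun hd => ?_⟩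
    have := hic _ hd
    rwa [show i * (i * d * i⁻¹) * i⁻¹ = (i * i) * d * (i * i)⁻¹ by group, hii, one_mul, inv_one,
      mul_one] at this
  have hNc : Nat.card N = Nat.card Δ * e := by
    have horb : MulAction.orbit N o = Δ := by
      ext z
      refine ⟨?_, fun hz => ?_⟩
      · rintro ⟨n, rfl⟩; exact hNΔ n n.2 o hoΔ
      · by_cases hzo : z = o
        · exact ⟨1, by rw [hzo]; exact one_smul _ _⟩
        · obtain ⟨i, hi, hiz⟩ := exists_swap h.strong (Ne.symm hzo)
          exact ⟨⟨i, hswap z hz hzo i hi hiz⟩, hiz⟩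
    have h1 := Nat.card_congr (MulAction.orbitEquivQuotientStabilizer N o)
    rw [horb] at h1
    have h2 : Nat.card (MulAction.stabilizer N o) = e := by
      rw [he, ← h.card_pair hy]
      exact Nat.card_congr
        { toFun := fun n => ⟨(n : N).1, h.normalizer_inf hy (n : N).2 (smul_mk_one_iff.1 n.2)⟩
          invFun := fun d => ⟨⟨d, le_normalizer d.2⟩, smul_mk_one_iff.2 (mem_pair.1 d.2).1⟩
          left_inv := fun _ => rfl
          right_inv := fun _ => rfl }
    rw [card_eq_card_quotient_mul_card_subgroup (MulAction.stabilizer N o), ← h1, h2]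
  have hodd : ∀ d ∈ D, orderOf d ∣ e := fun d hd => by
    rw [he, ← h.card_pair hy]
    exact (orderOf_mk d hd).symm ▸ orderOf_dvd_natCard _
  have hcent : ∀ v : G, orderOf v = 2 → ∀ d ∈ D, v * d = d * v → d = 1 := by
    intro v hv d hd hc
    obtain ⟨w, hw⟩ := exists_fix h.strong hv
    have hdw : d • w = w := fix_unique h.strong hv (by rw [smul_smul, hc, mul_smul, hw]) hw
    obtain ⟨g, rfl⟩ := QuotientGroup.mk_surjective w
    rw [smul_mk_iff] at hw hdw
    have hv' : orderOf (g⁻¹ * v * g) = 2 := by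
      rw [show g⁻¹ * v * g = g⁻¹ * v * g⁻¹⁻¹ by rw [inv_inv], CfsgLib.Invol.orderOf_conj_eq, hv]
    have hdF : g⁻¹ * d * g ∈ F M := h.cent (h.invol_mem hw hv')
      (fun e' => by rw [e', orderOf_one] at hv'; omega)
      (by calc g⁻¹ * v * g * (g⁻¹ * d * g) = g⁻¹ * (v * d) * g := by group
            _ = g⁻¹ * (d * v) * g := by rw [hc]
            _ = _ := by group)
    have ho' : orderOf d ∣ Nat.card (F M) := by
      rw [← CfsgLib.Invol.orderOf_conj_eq g⁻¹ d, inv_inv]
      exact (orderOf_mk _ hdF).symm ▸ orderOf_dvd_natCard _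
    exact orderOf_eq_one_iff.1 (Nat.eq_one_of_dvd_coprimes h.coprime ho' (hodd d hd))
  have hinv : ∀ v ∈ N, orderOf v = 2 → ∀ d ∈ D, v * d * v⁻¹ = d⁻¹ := by
    intro v hv ho' d hd
    let σ : D →* D :=
      { toFun := fun d => ⟨v * d * v⁻¹, (mem_normalizer_iff.1 hv d).1 d.2⟩
        map_one' := Subtype.ext (by simp)
        map_mul' := fun a b => Subtype.ext (by simp [mul_assoc]) }
    have hfix : MonoidHom.FixedPointFree σ := fun x hx => Subtype.ext (hcent v ho' x x.2
      (mul_inv_eq_iff_eq_mul.1 (congrArg Subtype.val hx)))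
    have hvv : Function.Involutive σ := fun x => Subtype.ext (by
      show v * (v * (x : G) * v⁻¹) * v⁻¹ = (x : G)
      rw [show v * (v * (x : G) * v⁻¹) * v⁻¹ = (v * v) * x * (v * v)⁻¹ by group,
        CfsgLib.Invol.mul_self_eq_one ho', one_mul, inv_one, mul_one])
    exact congrArg Subtype.val (congrFun (hfix.coe_eq_inv_of_involutive hvv) ⟨d, hd⟩)
  have hu₀N : u₀ ∈ N := hswap y hyΔ hy u₀ hu₀ hu₀y
  refine ⟨fun c hc d hd => ?_, ?_⟩
  · have h1 := hinv u₀ hu₀N hu₀ (c * d) (mul_mem hc hd)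
    rw [show u₀ * (c * d) * u₀⁻¹ = (u₀ * c * u₀⁻¹) * (u₀ * d * u₀⁻¹) by group, hinv u₀ hu₀N hu₀ c hc,
      hinv u₀ hu₀N hu₀ d hd, mul_inv_rev] at h1
    have h2 := congrArg (·⁻¹) h1
    simpa using h2.symm
  -- counting involutions in the normaliser
  set C := (centralizer (D : Set G)).subgroupOf N with hC
  let I := {v : G // v ∈ N ∧ orderOf v = 2}
  have hIC : Nat.card I ≤ Nat.card C := by
    refine Nat.card_le_card_of_injective (fun v : I =>
      (⟨⟨u₀ * v.1, mul_mem hu₀N v.2.1⟩, mem_subgroupOf.2 (mem_centralizer_iff.2 fun d hd => ?_)⟩ : C))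
      fun v v' e => Subtype.ext (mul_left_cancel (congrArg (fun z : C => ((z : N) : G)) e))
    have h1 := hinv v.1 v.2.1 v.2.2 d hd
    have h2 := hinv u₀ hu₀N hu₀ d⁻¹ (inv_mem hd)
    rw [inv_inv] at h2
    calc d * (u₀ * v.1) = u₀ * d⁻¹ * u₀⁻¹ * (u₀ * v.1) := by rw [h2]
      _ = u₀ * (d⁻¹ * v.1) := by group
      _ = u₀ * (v.1 * d * v.1⁻¹ * v.1) := by rw [h1]
      _ = u₀ * v.1 * d := by group
  have hIK : ∀ v : I, v.1 ∉ M := fun v hvM => by
    have h1 := hodd _ (h.normalizer_inf hy v.2.1 hvM)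
    rw [v.2.2] at h1
    exact Nat.not_even_iff_odd.2 h.odd_index (even_iff_two_dvd.2 h1)
  let Δ' := {x : G ⧸ M // x ∈ Δ ∧ x ≠ o}
  let π : I → Δ' := fun v => ⟨v.1 • o, hNΔ _ v.2.1 _ hoΔ, fun e => hIK v (smul_mk_one_iff.1 e)⟩
  have hfibre : ∀ z : Δ', Nat.card {v : I // π v = z} = e := by
    intro z
    rw [he, ← (h.card_invol_and_pair hy).2, ← card_swap h.strong (x := o) (y := z.1) z.2.2.symm]
    exact Nat.card_congr
      { toFun := fun v => ⟨v.1.1, v.1.2.2, congrArg Subtype.val v.2⟩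
        invFun := fun i => ⟨⟨i.1, hswap z.1 z.2.1 z.2.2 i.1 i.2.1 i.2.2, i.2.1⟩, Subtype.ext i.2.2⟩
        left_inv := fun v => rfl
        right_inv := fun i => rfl }
  haveI : Fintype Δ' := Fintype.ofFinite _
  have hIcount : Nat.card I = Nat.card Δ' * e := by
    rw [← Nat.card_congr (Equiv.sigmaFiberEquiv π), Nat.card_sigma,
      Finset.sum_congr rfl (fun z _ => hfibre z),
      Finset.sum_const, Finset.card_univ, Nat.card_eq_fintype_card, smul_eq_mul]
  have hΔ' : Nat.card Δ' = Nat.card Δ - 1 := by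
    have e' : Nat.card Δ' = (Δ \ {o}).ncard := by
      rw [← Nat.card_coe_set_eq]
      exact Nat.card_congr (Equiv.subtypeEquivRight fun x => by simp)
    rw [e', Set.ncard_sdiff_singleton_of_mem hoΔ, Nat.card_coe_set_eq]
  have hC2 : Nat.card C * 2 ≤ Nat.card N := by
    obtain ⟨d, hd, hd1⟩ := h.exists_ne_one_pair hy
    have hne : C.index ≠ 1 := fun e' => hd1 (hcent u₀ hu₀ d hd
      (mem_centralizer_iff.1 (mem_subgroupOf.1
        ((index_eq_one.1 e') ▸ mem_top (⟨u₀, hu₀N⟩ : N) : (⟨u₀, hu₀N⟩ : N) ∈ C)) d hd).symm)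
    have h0 : C.index ≠ 0 := index_ne_zero_of_finite
    rw [← card_mul_index C]
    exact Nat.mul_le_mul_left _ (by omega)
  have hΔ2 : Nat.card Δ ≤ 2 := by
    have h1 : (Nat.card Δ - 1) * 2 * e ≤ Nat.card Δ * e := by
      calc (Nat.card Δ - 1) * 2 * e = Nat.card I * 2 := by rw [hIcount, hΔ']; ring
        _ ≤ Nat.card C * 2 := Nat.mul_le_mul_right _ hIC
        _ ≤ Nat.card N := hC2
        _ = _ := hNc
    have := Nat.le_of_mul_le_mul_right h1 (zero_lt_one.trans h.one_lt_index)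
    omega
  intro z hz
  have hsub : ({o, y} : Set (G ⧸ M)) = Δ := Set.eq_of_subset_of_ncard_le
    (Set.insert_subset hoΔ (Set.singleton_subset_iff.2 hyΔ))
    (by rw [Set.ncard_pair (Ne.symm hy), ← Nat.card_coe_set_eq]; exact hΔ2)
  have hz' : z ∈ Δ := hz
  rw [← hsub] at hz'
  simpa using hz'

/-- Different two-point stabilisers meet trivially. -/
theorem pair_disjoint {z : G ⧸ M} (hz : z ≠ QuotientGroup.mk 1) (hzy : z ≠ y) {d : G}
    (hdy : d ∈ pair M y) (hdz : d ∈ pair M z) : d = 1 := by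
  by_contra hd1
  haveI := h.normal
  set C := M ⊓ centralizer ({d} : Set G)
  have hCF : ∀ c ∈ C, c ∈ F M → c = 1 := fun c hc hcF =>
    h.fpf (mem_pair.1 hdy).1 (fun hdF => hd1 (h.pair_inf hy hdy hdF)) hcF
      (mem_centralizer_singleton_iff.1 (mem_inf.1 hc).2)
  have hCc : Nat.card C ≤ (F M).relIndex M := by
    refine Nat.le_of_dvd (zero_lt_one.trans h.one_lt_index) ?_
    exact card_dvd_of_injective ((QuotientGroup.mk' ((F M).subgroupOf M)).comp
      (inclusion (inf_le_left : C ≤ M))) ((injective_iff_map_eq_one _).2 fun c hc =>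
        Subtype.ext (hCF c c.2 (mem_of_quot_eq_one _ hc)))
  have h1 : pair M y ≤ C := fun x hx => mem_inf.2 ⟨(mem_pair.1 hx).1,
    mem_centralizer_singleton_iff.2 ((h.pair_abelian_and_fix hy).1 x hx d hdy)⟩
  have h2 : pair M z ≤ C := fun x hx => mem_inf.2 ⟨(mem_pair.1 hx).1,
    mem_centralizer_singleton_iff.2 ((h.pair_abelian_and_fix hz).1 x hx d hdz)⟩
  have e1 : pair M y = C := eq_of_le_of_card_ge h1 (hCc.trans (h.card_pair hy).ge)
  have e2 : pair M z = C := eq_of_le_of_card_ge h2 (hCc.trans (h.card_pair hz).ge)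
  rcases (h.pair_abelian_and_fix hy).2 z fun x hx => (mem_pair.1 ((e1.trans e2.symm) ▸ hx)).2 with e | e
  · exact hz e
  · exact hzy e

end EvenKernel

end CfsgLib.FrobSystem
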